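import Cfsg.Agent.Lib.MinIndexOrth2.Basic

/-!
Over the field with two elements, in dimension at least eight, not all radicals act regularly: the Eichler
transformation of a non-singular vector in a Levi complement fixes a point of the regular orbit.
-/

set_option autoImplicit false
set_option linter.unusedSectionVars false

namespace CfsgLib.MinIndexOrth2

open Matrix QuadraticMap CfsgLib.Orth CfsgLib.MinIndexOrth

variable {ι : Type} [Fintype ι] [DecidableEq ι] {F : Type*} [Field F] [Fintype F]

namespace Space2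

variable (S : Space ι F) (hF : Fintype.card F = 2) {X : Type*} [MulAction S.G X]

include hF in
theorem no_all_regular_two (h8 : 8 ≤ Fintype.card ι) [Nonempty X]
    (huniq : ∀ (ω ω' : X) p, S.Q p = 0 → p ≠ 0 → ω' ∈ S.orb ω p)
    (hall : ∀ (ω : X) p, S.Q p = 0 → p ≠ 0 → S.Reg ω p) : False := by
  classical
  obtain ⟨ω⟩ := ‹Nonempty X›
  obtain ⟨p, -, hp0, hp⟩ := S.exists_sing (Fin.elim0 : Fin 0 → ι → F) (by omega)
  obtain ⟨p', hpp', hp'⟩ := S.exists_partner hp hp0
  have hp'p : polar S.Q p' p = 1 := by rw [polar_comm, hpp']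
  obtain ⟨r, hrx, hr0, hr⟩ := S.exists_sing ![p, p'] (by omega)
  have hpr : polar S.Q p r = 0 := hrx 0
  have hp'r : polar S.Q p' r = 0 := hrx 1
  have hrp : polar S.Q r p = 0 := by rw [polar_comm, hpr]
  have hrp' : polar S.Q r p' = 0 := by rw [polar_comm, hp'r]
  obtain ⟨r', hr'x, hrr', hr'⟩ := POmega.exists_pair S.nondeg ![p, p'] hr hrx (by
    intro hm
    simp only [Matrix.range_cons, Matrix.range_empty, Set.union_empty, Set.singleton_union,
      Submodule.mem_span_pair] at hm
    obtain ⟨a, b, rfl⟩ := hm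
    simp [polar_add_right, polar_smul_right, hpp', S.polar_self_zero hp] at hpr
    simp [polar_add_right, polar_smul_right, hp'p, S.polar_self_zero hp'] at hp'r
    exact hr0 (by rw [hpr, hp'r]; simp))
  have hpr' : polar S.Q p r' = 0 := hr'x 0
  have hp'r' : polar S.Q p' r' = 0 := hr'x 1
  have hr'r : polar S.Q r' r = 1 := by rw [polar_comm, hrr']
  -- singular vectors of the complement of two pairs have partners there
  have hnot : ∀ {z : ι → F}, z ≠ 0 → polar S.Q p z = 0 → polar S.Q p' z = 0 → polar S.Q r z = 0 →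
      polar S.Q r' z = 0 → z ∉ Submodule.span F (Set.range ![p, p', r, r']) := by
    intro z hz0 h1 h2 h3 h4 hm
    simp only [Matrix.range_cons, Matrix.range_empty, Set.union_empty, Set.singleton_union,
      Submodule.mem_span_insert, Submodule.mem_span_singleton] at hm
    obtain ⟨a, z₁, ⟨b, z₂, ⟨c, z₃, ⟨d, rfl⟩, rfl⟩, rfl⟩, rfl⟩ := hm
    simp [polar_add_right, polar_smul_right, hpp', hpr, hpr', S.polar_self_zero hp] at h1
    simp [polar_add_right, polar_smul_right, hp'p, hp'r, hp'r', S.polar_self_zero hp'] at h2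
    simp [polar_add_right, polar_smul_right, hrp, hrp', hrr', S.polar_self_zero hr] at h3
    simp [polar_add_right, polar_smul_right, hr'r, polar_comm (f := ⇑S.Q) r' p, hpr',
      polar_comm (f := ⇑S.Q) r' p', hp'r', S.polar_self_zero hr'] at h4
    exact hz0 (by rw [h1, h2, h3, h4]; simp)
  obtain ⟨s, hsx, hs0, hs⟩ := S.exists_sing ![p, p', r, r'] (by omega)
  obtain ⟨s', hs'x, hss', hs'⟩ := POmega.exists_pair S.nondeg ![p, p', r, r'] hs hsx
    (hnot hs0 (hsx 0) (hsx 1) (hsx 2) (hsx 3))
  set w := s + s' with hwdef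
  have hw : S.Q w = 1 := by rw [QuadraticMap.map_add ⇑S.Q, hs, hs', hss']; simp
  have hwx : ∀ i, polar S.Q (![p, p', r, r'] i) w = 0 := fun i => by
    rw [polar_add_right, hsx i, hs'x i, add_zero]
  have hpw : polar S.Q p w = 0 := hwx 0
  have hp'w : polar S.Q p' w = 0 := hwx 1
  have hrw : polar S.Q r w = 0 := hwx 2
  have hr'w : polar S.Q r' w = 0 := hwx 3
  have hww : polar S.Q w w = 0 := by rw [polar_self', two_eq_zero hF, zero_mul]
  -- the translation part of a transformation fixing the frame
  have hc : ∀ g : S.G, ∃ c, polar S.Q p c = 0 ∧ polar S.Q p' c = 0 ∧ g • ω = S.el p c • ω := by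
    intro g
    obtain ⟨c, hc, hcω⟩ := huniq ω (g • ω) p hp hp0
    refine ⟨c + (-polar S.Q p' c) • p, by simp [polar_add_right, polar_smul_right, hc, S.polar_self_zero hp],
      by simp [polar_add_right, polar_smul_right, hp'p], ?_⟩
    rw [← S.el_add hp hc (by rw [polar_smul_right, S.polar_self_zero hp, smul_zero]), S.el_smul_self hp,
      mul_one, hcω]
  have hcu : ∀ {c d : ι → F}, polar S.Q p c = 0 → polar S.Q p' c = 0 → polar S.Q p d = 0 →
      polar S.Q p' d = 0 → S.el p c • ω = S.el p d • ω → c = d := by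
    intro c d hc hc' hd hd' he
    have h1 : polar S.Q p (c + d) = 0 := by rw [polar_add_right, hc, hd, add_zero]
    have h2 : S.el p (c + d) • ω = ω := by
      rw [← S.el_add hp hc hd, mul_smul, ← he, ← mul_smul, el_sq S hF hp hc, one_smul]
    have h3 : polar S.Q p' (c + d) = 0 := by rw [polar_add_right, hc', hd', add_zero]
    rcases (mem_span1 hF).1 (hall ω p hp hp0 _ h1 h2) with h | h
    · calc c = c + d + d := (vcancel hF c d).symm
        _ = d := by rw [h, zero_add]
    · rw [h, hp'p] at h3
      exact absurd h3 one_ne_zero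
  choose c hcp hcp' hcω using hc
  have hcoc : ∀ g k : S.G, S.ap g p = p → S.ap g p' = p' → c (g * k) = S.ap g (c k) + c g := by
    intro g k hg hg'
    have e1 : polar S.Q p (S.ap g (c k)) = 0 := by rw [← hg, S.polar_ap, hcp]
    have e2 : polar S.Q p' (S.ap g (c k)) = 0 := by rw [← hg', S.polar_ap, hcp']
    refine hcu (hcp _) (hcp' _) (by rw [polar_add_right, e1, hcp, add_zero])
      (by rw [polar_add_right, e2, hcp', add_zero]) ?_
    have e3 : S.el p (S.ap g (c k)) * g = g * S.el p (c k) := by
      have e0 := S.el_conj hp (hcp k) g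
      rw [hg] at e0
      rw [← e0, inv_mul_cancel_right]
    rw [← hcω, mul_smul, hcω k, ← mul_smul, ← e3, mul_smul, hcω g, ← mul_smul, S.el_add hp e1 (hcp g)]
  have hfixp : ∀ {a b : ι → F}, S.Q a = 0 → polar S.Q a b = 0 → polar S.Q p a = 0 → polar S.Q p' a = 0 →
      polar S.Q p b = 0 → polar S.Q p' b = 0 → S.ap (S.el a b) p = p ∧ S.ap (S.el a b) p' = p' :=
    fun {a b} ha hab h1 h2 h3 h4 => ⟨S.ap_el_of_perp ha hab h1 h3, S.ap_el_of_perp ha hab h2 h4⟩
  set h := S.el r w
  obtain ⟨hhp, hhp'⟩ := hfixp hr hrw hpr hp'r hpw hp'w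
  -- commuting with a singular direction
  obtain ⟨u, hux, hu0, hu⟩ := S.exists_sing ![p, p', r, r', w] (by omega)
  have hru : polar S.Q r u = 0 := hux 2
  have hwu : polar S.Q w u = 0 := hux 4
  obtain ⟨v, hvx, huv, -⟩ := POmega.exists_pair S.nondeg ![p, p', r, r', w] hu hux (by
    intro hm
    simp only [Matrix.range_cons, Matrix.range_empty, Set.union_empty, Set.singleton_union,
      Submodule.mem_span_insert, Submodule.mem_span_singleton] at hm
    obtain ⟨a, z₁, ⟨b, z₂, ⟨d, z₃, ⟨e, z₄, ⟨f, rfl⟩, rfl⟩, rfl⟩, rfl⟩, rfl⟩ := hm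
    have h1 : polar S.Q p _ = 0 := hux 0
    have h2 : polar S.Q p' _ = 0 := hux 1
    have h3 : polar S.Q r _ = 0 := hux 2
    have h4 : polar S.Q r' _ = 0 := hux 3
    simp [polar_add_right, polar_smul_right, hpp', hpr, hpr', hpw, S.polar_self_zero hp] at h1
    simp [polar_add_right, polar_smul_right, hp'p, hp'r, hp'r', hp'w, S.polar_self_zero hp'] at h2
    simp [polar_add_right, polar_smul_right, hrp, hrp', hrr', hrw, S.polar_self_zero hr] at h3
    simp [polar_add_right, polar_smul_right, hr'r, polar_comm (f := ⇑S.Q) r' p, hpr', hr'w,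
      polar_comm (f := ⇑S.Q) r' p', hp'r', S.polar_self_zero hr'] at h4
    rw [h1, h2, h3, h4] at hu hu0
    rcases cases2 hF f with rfl | rfl
    · simp at hu0
    · simp [hw] at hu)
  have hpv : polar S.Q p v = 0 := hvx 0
  have hp'v : polar S.Q p' v = 0 := hvx 1
  have hrv : polar S.Q r v = 0 := hvx 2
  have hwv : polar S.Q w v = 0 := hvx 4
  have hε : polar S.Q (c h) r = 0 := by
    set k := S.el r u
    obtain ⟨hkp, hkp'⟩ := hfixp hr hru hpr hp'r (hux 0) (hux 1)
    have e : S.ap h (c k) + c h = S.ap k (c h) + c k := by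
      rw [← hcoc h k hhp hhp', ← hcoc k h hkp hkp', S.el_add hr hrw hru, S.el_add hr hru hrw, add_comm]
    rw [ap_el2 S hF hr hrw, ap_el2 S hF hr hru] at e
    have e2 := congrArg (fun z => polar S.Q v z) e
    simp only [polar_add_right, polar_smul_right, polar_comm (f := ⇑S.Q) v r, hrv,
      polar_comm (f := ⇑S.Q) v u, huv, polar_comm (f := ⇑S.Q) v w, hwv, smul_eq_mul, mul_zero, mul_one,
      add_zero] at e2
    linear_combination -e2
  have hcw : polar S.Q (c h) w = 0 := by
    have e : S.ap h (c h) + c h = c (h * h) := (hcoc h h hhp hhp').symm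
    rw [el_sq S hF hr hrw] at e
    have h1 : c 1 = 0 := by
      refine hcu (hcp 1) (hcp' 1) (polar_zero_right _ _) (polar_zero_right _ _) ?_
      rw [← hcω, one_smul, S.el_zero hp, one_smul]
    rw [h1, ap_el2 S hF hr hrw, hε, zero_smul, add_zero, mul_zero, add_zero, add_right_comm,
      vadd_self hF, zero_add] at e
    exact (smul_eq_zero.1 e).resolve_right hr0
  have hcu' : ∀ z, S.Q z = 0 → z ≠ 0 → (∀ i, polar S.Q (![p, p', r, r'] i) z = 0) → polar S.Q w z = 0 →
      polar S.Q (c h) z = 0 := by
    intro z hz hz0 hzx hwz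
    have hrz : polar S.Q r z = 0 := hzx 2
    have hzw : polar S.Q z w = 0 := by rw [polar_comm, hwz]
    obtain ⟨t, htx, hzt, -⟩ := POmega.exists_pair S.nondeg ![p, p', r, r', w] hz
      (fun i => by
        fin_cases i
        · exact hzx 0
        · exact hzx 1
        · exact hzx 2
        · exact hzx 3
        · exact hwz) (by
        intro hm
        simp only [Matrix.range_cons, Matrix.range_empty, Set.union_empty, Set.singleton_union,
          Submodule.mem_span_insert, Submodule.mem_span_singleton] at hm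
        obtain ⟨a, z₁, ⟨b, z₂, ⟨d, z₃, ⟨e, z₄, ⟨f, rfl⟩, rfl⟩, rfl⟩, rfl⟩, rfl⟩ := hm
        have h1 : polar S.Q p _ = 0 := hzx 0
        have h2 : polar S.Q p' _ = 0 := hzx 1
        have h3 : polar S.Q r _ = 0 := hzx 2
        have h4 : polar S.Q r' _ = 0 := hzx 3
        simp [polar_add_right, polar_smul_right, hpp', hpr, hpr', hpw, S.polar_self_zero hp] at h1
        simp [polar_add_right, polar_smul_right, hp'p, hp'r, hp'r', hp'w, S.polar_self_zero hp'] at h2
        simp [polar_add_right, polar_smul_right, hrp, hrp', hrr', hrw, S.polar_self_zero hr] at h3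
        simp [polar_add_right, polar_smul_right, hr'r, polar_comm (f := ⇑S.Q) r' p, hpr', hr'w,
          polar_comm (f := ⇑S.Q) r' p', hp'r', S.polar_self_zero hr'] at h4
        rw [h1, h2, h3, h4] at hz hz0
        rcases cases2 hF f with rfl | rfl
        · simp at hz0
        · simp [hw] at hz)
    set l := S.el z w
    obtain ⟨hlp, hlp'⟩ := hfixp hz hzw (hzx 0) (hzx 1) hpw hp'w
    have hlr : S.ap l r = r := S.ap_el_of_perp hz hzw hrz hrw
    have hlw : S.ap l w = w := S.ap_el_of_perp hz hzw hwz hww
    have hlh : l * h = h * l := by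
      have e0 := S.el_conj hr hrw l
      rw [hlr, hlw] at e0
      exact mul_inv_eq_iff_eq_mul.1 e0
    have e : S.ap l (c h) + c l = S.ap h (c l) + c h := by
      rw [← hcoc l h hlp hlp', ← hcoc h l hhp hhp', hlh]
    rw [ap_el2 S hF hz hzw, ap_el2 S hF hr hrw] at e
    have e2 := congrArg (fun x => polar S.Q t x) e
    have htw : polar S.Q t w = 0 := by rw [polar_comm]; exact htx 4
    have htr : polar S.Q t r = 0 := by rw [polar_comm]; exact htx 2
    have htz : polar S.Q t z = 1 := by rw [polar_comm, hzt]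
    simp only [polar_add_right, polar_smul_right, htw, htr, htz, hcw, hw, smul_eq_mul, mul_zero, mul_one,
      one_mul, zero_add, add_zero] at e2
    linear_combination e2
  -- the translation part lies in the span of `w` and `r`
  obtain ⟨α, γ, hcαγ⟩ : ∃ α γ : F, c h = α • w + γ • r := by
    have key : ∀ z, polar S.Q p z = 0 → polar S.Q p' z = 0 → polar S.Q r z = 0 → polar S.Q w z = 0 →
        polar S.Q (c h) z = 0 := by
      intro z h1 h2 h3 h4
      set z₁ := z + polar S.Q r' z • r
      have hz₁x : ∀ i, polar S.Q (![p, p', r, r'] i) z₁ = 0 := by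
        intro i
        fin_cases i <;> simp [z₁, polar_add_right, polar_smul_right, h1, h2, h3, hpr, hp'r,
          S.polar_self_zero hr, hr'r, add_self2 hF]
      have hwz₁ : polar S.Q w z₁ = 0 := by
        simp [z₁, polar_add_right, polar_smul_right, h4, polar_comm (f := ⇑S.Q) w r, hrw]
      have hgoal : polar S.Q (c h) z = polar S.Q (c h) z₁ := by
        simp [z₁, polar_add_right, polar_smul_right, hε]
      rw [hgoal]
      rcases cases2 hF (S.Q z₁) with hq | hq
      · by_cases hz0 : z₁ = 0
        · rw [hz0, polar_zero_right]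
        · exact hcu' z₁ hq hz0 hz₁x hwz₁
      · have hq2 : S.Q (z₁ + w) = 0 := by
          rw [QuadraticMap.map_add ⇑S.Q, hq, hw, polar_comm, hwz₁, add_zero, add_self2 hF]
        have h5 : polar S.Q (c h) (z₁ + w) = 0 := by
          by_cases hz0 : z₁ + w = 0
          · rw [hz0, polar_zero_right]
          · exact hcu' _ hq2 hz0 (fun i => by rw [polar_add_right, hz₁x i, hwx i, add_zero])
              (by rw [polar_add_right, hwz₁, hww, add_zero])
        rwa [polar_add_right, hcw, add_zero] at h5
    set P := Submodule.span F (Set.range ![p, p', r, w])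
    have hmem : c h ∈ P := by
      rw [← S.orth_orth P]
      refine S.mem_orth.2 fun z hz => ?_
      rw [polar_comm]
      exact key z (S.mem_orth_span.1 hz p ⟨0, rfl⟩) (S.mem_orth_span.1 hz p' ⟨1, rfl⟩)
        (S.mem_orth_span.1 hz r ⟨2, rfl⟩) (S.mem_orth_span.1 hz w ⟨3, rfl⟩)
    simp only [P, Matrix.range_cons, Matrix.range_empty, Set.union_empty, Set.singleton_union,
      Submodule.mem_span_insert, Submodule.mem_span_singleton] at hmem
    obtain ⟨a, z₁, ⟨b, z₂, ⟨γ, z₃, ⟨α, rfl⟩, rfl⟩, rfl⟩, hch⟩ := hmem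
    refine ⟨α, γ, ?_⟩
    have h1 := hcp h
    have h2 := hcp' h
    rw [hch] at h1 h2
    simp [polar_add_right, polar_smul_right, hpp', hpr, hpw, S.polar_self_zero hp] at h1
    simp [polar_add_right, polar_smul_right, hp'p, hp'r, hp'w, S.polar_self_zero hp'] at h2
    rw [hch, h1, h2]
    simp [add_comm]
  -- a fixed point of `h`
  have htw : polar S.Q s w = 1 := by
    rw [hwdef, polar_add_right, S.polar_self_zero hs, hss', zero_add]
  set x := α • r' + (γ + α) • s
  have hpx : polar S.Q p x = 0 := by
    simp [x, polar_add_right, polar_smul_right, hpr', show polar S.Q p s = 0 from hsx 0]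
  have hhx : S.ap h x + c h = x := by
    rw [ap_el2 S hF hr hrw, hcαγ]
    simp only [x, polar_add_left, polar_smul_left, hr'r, hr'w, htw, hw,
      polar_comm (f := ⇑S.Q) s r, show polar S.Q r s = 0 from hsx 2, smul_eq_mul, mul_one, mul_zero,
      add_zero, zero_add, one_mul]
    rcases cases2 hF α with rfl | rfl <;> rcases cases2 hF γ with rfl | rfl <;>
      match_scalars <;> first
        | ring_nf; done
        | linear_combination two_eq_zero hF
        | linear_combination -two_eq_zero hF
        | linear_combination 2 * two_eq_zero hF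
        | linear_combination 3 * two_eq_zero hF
  have hfix : h • S.el p x • ω = S.el p x • ω := by
    have e0 := S.el_conj hp hpx h
    rw [hhp, mul_inv_eq_iff_eq_mul] at e0
    rw [← mul_smul, e0, mul_smul, hcω h, ← mul_smul, S.el_add hp (by rw [← hhp, S.polar_ap, hpx]) (hcp h),
      hhx]
  have := hall (S.el p x • ω) r hr hr0 w hrw hfix
  rcases (mem_span1 hF).1 this with h0 | h0
  · rw [h0] at hw; simp at hw
  · rw [h0, hr] at hw; exact zero_ne_one hw

end Space2

end CfsgLib.MinIndexOrth2
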