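import Cfsg.Agent.Lib.MinIndexOrth2.Inv
import Cfsg.Agent.Lib.MinIndexOrth2.Regular
import Cfsg.Agent.Lib.MinIndexOrth.SmallIndex

/-!
The index bound over the field with two elements in dimension at least eight, from numerical conditions.
-/

set_option autoImplicit false
set_option linter.unusedSectionVars false

namespace CfsgLib.MinIndexOrth2

open Matrix QuadraticMap CfsgLib.Orth CfsgLib.MinIndexOrth

universe u

variable {ι : Type} [Fintype ι] [DecidableEq ι] {F : Type u} [Field F] [Fintype F]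

namespace Space2

variable (S : Space ι F) (hF : Fintype.card F = 2)

include hF in
theorem orbsAt_small {X : Type*} [MulAction S.G X] [Fintype X] {N : ℕ} (hlt : Fintype.card X < N)
    (hfive : ∀ p, S.Q p = 0 → p ≠ 0 → 2 * N ≤ 5 * S.cnt p 1) {p y : ι → F} (hp : S.Q p = 0)
    (hp0 : p ≠ 0) (hy : S.Q y ≠ 0) : (S.orbsAt (X := X) p y).card ≤ 4 := by
  classical
  by_contra hge
  push Not at hge
  have hy1 := eq_one2 hF hy
  obtain ⟨o, ho⟩ : (S.orbsAt (X := X) p y).Nonempty := Finset.card_pos.1 (by omega)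
  obtain ⟨-, ω, -, hyd⟩ := S.mem_orbsAt.1 ho
  have hpy : polar S.Q p y = 0 := S.mem_pp.1 (S.dl_le ω hp hyd)
  set Y := Finset.univ.filter fun z : ι → F => polar S.Q p z = 0 ∧ S.Q z = 1 with hY
  have hind : ∀ z : ι → F, S.Q z = 1 → LinearIndependent F ![p, z] := fun z hz =>
    LinearIndependent.pair_iff' hp0 |>.2 fun t ht => by
      rw [← ht, QuadraticMap.map_smul, hp, smul_zero] at hz
      exact zero_ne_one hz
  have h := S.orbsAt_mul_le hp hp0 Y (fun z hz hm => by
    have hz1 : S.Q z = 1 := (Finset.mem_filter.1 hz).2.2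
    obtain ⟨t, rfl⟩ := Submodule.mem_span_singleton.1 hm
    rw [QuadraticMap.map_smul, hp, smul_zero] at hz1
    exact zero_ne_one hz1) 5 (fun z hz => by
    obtain ⟨hpz, hQz⟩ := (Finset.mem_filter.1 hz).2
    obtain ⟨g, hg⟩ := S.exists_map ![p, y] ![p, z] (hind y hy1) (hind z hQz)
      (by have := S.seven; omega) (fun i => by fin_cases i <;> simp [hQz, hy1])
      (fun i j => by
        fin_cases i <;> fin_cases j <;>
          simp [hpz, hpy, polar_comm (f := ⇑S.Q) z p, polar_comm (f := ⇑S.Q) y p, polar_self', hQz, hy1])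
    have h1 : S.ap g p = p := hg 0
    have h2 : S.ap g y = z := hg 1
    have h3 := S.card_orbsAt_ap (X := X) g (y := y) hp
    rw [h1, h2] at h3
    omega)
  have hcnt : S.cnt p 1 = Y.card := by
    rw [Space.cnt, Nat.card_eq_fintype_card, Fintype.card_subtype]
  rw [← hcnt, hF] at h
  have h5 := hfive p hp hp0
  omega

include hF in
/-- the duals are lines or totally singular unless regular -/
theorem lsp_cases_two {X : Type*} [MulAction S.G X] [Fintype X] (h8 : 8 ≤ Fintype.card ι)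
    (hsmall : ∀ p y, S.Q p = 0 → p ≠ 0 → S.Q y ≠ 0 → (S.orbsAt (X := X) p y).card ≤ 4)
    {ω : X} {p : ι → F} (hp : S.Q p = 0) (hp0 : p ≠ 0) (hr : ¬ S.Reg ω p) :
    (∃ y, S.Q y ≠ 0 ∧ S.lsp ω p = Submodule.span F {p, y}) ∨ S.TS (S.lsp ω p) := by
  by_cases h : ∃ y, y ∈ S.dl ω p ∧ S.Q y ≠ 0
  · obtain ⟨y, hyd, hy⟩ := h
    refine Or.inl ⟨y, hy, le_antisymm (Submodule.span_le.2 fun x hx => ?_) (Submodule.span_le.2 ?_)⟩
    · by_contra hc
      exact hr (S.reg_of_dl hp (dl_big S hF h8 hsmall hp hp0 hy hyd hx hc))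
    · intro z hz
      simp only [Set.mem_insert_iff, Set.mem_singleton_iff] at hz
      rcases hz with rfl | rfl
      · exact S.self_mem_lsp ω _
      · exact Submodule.subset_span hyd
  · push Not at h
    exact Or.inr fun v hv => h v ((mem_lsp S hF).1 hv)

include hF in
/-- The index bound over two elements, dimension at least eight. -/
theorem index_ge_two {N w : ℕ} (hB : S.Bounds N w) (h8 : 8 ≤ Fintype.card ι)
    (hfive : ∀ p, S.Q p = 0 → p ≠ 0 → 2 * N ≤ 5 * S.cnt p 1)
    (hex : ∀ p, S.Q p = 0 → p ≠ 0 → N ≤ 2 ^ (Fintype.card ι - 2) + S.cnt p 1)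
    (hone : 2 * w = Fintype.card ι →
      N * ((2 ^ w - 2) * (2 ^ w - 2 ^ 2)) ≤ 2 ^ (w - 1) * ((S.y0 - 2) * (S.y2 - 2 ^ 2)))
    (H : Subgroup (Cfsg.POmega F ⇑S.Q)) (hH : H ≠ ⊤) : N ≤ H.index := by
  refine S.index_ge (fun X _ _ _ hfree => ?_) H hH
  have hq : (Fintype.card F).Prime := by rw [hF]; exact Nat.prime_two
  have hsmall : Fintype.card X < N → ∀ p y, S.Q p = 0 → p ≠ 0 → S.Q y ≠ 0 →
      (S.orbsAt (X := X) p y).card ≤ 4 := fun hlt p y hp hp0 hy => orbsAt_small S hF hlt hfive hp hp0 hy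
  refine S.le_card_prime hB hfree hq ?_ ?_ (by rw [hF]; exact hone)
    (fun _ huniq hall => no_all_regular_two S hF h8 huniq hall)
  · intro hlt ω p hp hp0 hnr
    rcases lsp_cases_two S hF h8 (hsmall hlt) hp hp0 hnr with ⟨y, -, h⟩ | h
    · right
      have h2 := finrank_range_le_card (R := F) ![p, y]
      rw [Set.finrank, Fintype.card_fin,
        show Set.range ![p, y] = ({p, y} : Set (ι → F)) by simp [Set.pair_comm], ← h] at h2
      omega
    · exact Or.inl h
  · intro hlt ω₀ ω p hp hp0 h₀ hnr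
    rcases lsp_cases_two S hF h8 (hsmall hlt) hp hp0 hnr with ⟨y, hy, h⟩ | h
    · refine absurd h (S.ts_of_reg hq hlt (fun p c hp hp0 hc => ?_) hp hp0 h₀ hnr hy)
      have hs : Nat.card {t : F // t * t = 1} = 1 := by
        rw [Nat.card_eq_one_iff_unique]
        exact ⟨⟨fun a b => Subtype.ext (by
          rcases cases2 hF a.1 with ha | ha <;> rcases cases2 hF b.1 with hb | hb
          · rw [ha, hb]
          · have := a.2; rw [ha, mul_zero] at this; exact absurd this zero_ne_one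
          · have := b.2; rw [hb, mul_zero] at this; exact absurd this zero_ne_one
          · rw [ha, hb])⟩, ⟨⟨1, one_mul 1⟩⟩⟩
      rw [hs, one_mul, one_mul, hF, eq_one2 hF hc]
      exact hex p hp hp0
    · exact h

end Space2

end CfsgLib.MinIndexOrth2
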