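import Cfsg.Agent.Lib.MinIndexOrth.Endgame

/-!
Orthogonal spaces over the field with two elements: spans of one or two vectors, the duals of the radical
orbits as subspaces, and identities between Eichler transformations.
-/

set_option autoImplicit false
set_option linter.unusedSectionVars false

namespace CfsgLib.MinIndexOrth2

open Matrix QuadraticMap CfsgLib.Orth CfsgLib.MinIndexOrth

variable {ι : Type} [Fintype ι] [DecidableEq ι] {F : Type*} [Field F] [Fintype F]

theorem cases2 (hF : Fintype.card F = 2) (a : F) : a = 0 ∨ a = 1 := by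
  classical
  by_contra h
  push Not at h
  have h3 : ({0, 1, a} : Finset F).card = 3 := by
    rw [Finset.card_eq_three]
    exact ⟨0, 1, a, zero_ne_one, h.1.symm, h.2.symm, rfl⟩
  have := Finset.card_le_univ ({0, 1, a} : Finset F)
  omega

theorem two_eq_zero (hF : Fintype.card F = 2) : (2 : F) = 0 := by
  rcases cases2 hF (2 : F) with h | h
  · exact h
  · exfalso
    rw [← one_add_one_eq_two, add_eq_left] at h
    exact one_ne_zero h

theorem add_self2 (hF : Fintype.card F = 2) (a : F) : a + a = 0 := by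
  rw [← two_mul, two_eq_zero hF, zero_mul]

theorem neg2 (hF : Fintype.card F = 2) (a : F) : -a = a :=
  neg_eq_of_add_eq_zero_left (add_self2 hF a)

theorem eq_one2 (hF : Fintype.card F = 2) {a : F} (h : a ≠ 0) : a = 1 :=
  (cases2 hF a).resolve_left h

theorem vadd_self (hF : Fintype.card F = 2) (v : ι → F) : v + v = 0 := funext fun i => add_self2 hF (v i)

theorem vneg (hF : Fintype.card F = 2) (v : ι → F) : -v = v := funext fun i => neg2 hF (v i)

theorem vcancel (hF : Fintype.card F = 2) (u v : ι → F) : u + v + v = u := by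
  rw [add_assoc, vadd_self hF, add_zero]

theorem vsub (hF : Fintype.card F = 2) (u v : ι → F) : u - v = u + v := by
  rw [sub_eq_add_neg, vneg hF]

theorem mem_span1 (hF : Fintype.card F = 2) {p v : ι → F} :
    v ∈ Submodule.span F {p} ↔ v = 0 ∨ v = p := by
  rw [Submodule.mem_span_singleton]
  constructor
  · rintro ⟨t, rfl⟩
    rcases cases2 hF t with rfl | rfl <;> simp
  · rintro (rfl | rfl)
    · exact ⟨0, zero_smul _ _⟩
    · exact ⟨1, one_smul _ _⟩

theorem mem_span2 (hF : Fintype.card F = 2) {p z v : ι → F} :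
    v ∈ Submodule.span F {p, z} ↔ v = 0 ∨ v = p ∨ v = z ∨ v = p + z := by
  rw [Submodule.mem_span_pair]
  constructor
  · rintro ⟨a, b, rfl⟩
    rcases cases2 hF a with rfl | rfl <;> rcases cases2 hF b with rfl | rfl <;> simp
  · rintro (rfl | rfl | rfl | rfl)
    · exact ⟨0, 0, by simp⟩
    · exact ⟨1, 0, by simp⟩
    · exact ⟨0, 1, by simp⟩
    · exact ⟨1, 1, by simp⟩

namespace Space2

variable (S : Space ι F) (hF : Fintype.card F = 2) {X : Type*} [MulAction S.G X]

include hF in
theorem mem_lsp {ω : X} {p v : ι → F} : v ∈ S.lsp ω p ↔ v ∈ S.dl ω p := by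
  refine ⟨fun h => ?_, fun h => Submodule.subset_span h⟩
  induction h using Submodule.span_induction with
  | mem x hx => exact hx
  | zero => exact zero_mem _
  | add x y _ _ hx hy => exact add_mem hx hy
  | smul t x _ hx =>
    rcases cases2 hF t with rfl | rfl
    · rw [zero_smul]; exact zero_mem _
    · rwa [one_smul]

include hF in
theorem mem_stab_iff {ω : X} {p v : ι → F} : v ∈ S.stab ω p ↔ v ∈ S.orth (S.lsp ω p) := by
  have h : (S.lsp ω p).toAddSubgroup = S.dl ω p := by
    ext x
    exact mem_lsp S hF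
  rw [S.stab_eq_cperp_dl, ← h, S.cperp_sub]
  rfl

theorem el_zero_left (a : ι → F) : S.el 0 a = 1 := Subtype.ext eich_zero_left

theorem el_self {p : ι → F} (hp : S.Q p = 0) : S.el p p = 1 := by
  have := S.el_smul_self hp (1 : F)
  rwa [one_smul] at this

include hF in
theorem el_inv2 {u a : ι → F} (hu : S.Q u = 0) (ha : polar S.Q u a = 0) : (S.el u a)⁻¹ = S.el u a := by
  rw [S.el_inv hu ha, vneg hF]

include hF in
theorem el_sq {u a : ι → F} (hu : S.Q u = 0) (ha : polar S.Q u a = 0) : S.el u a * S.el u a = 1 := by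
  rw [S.el_add hu ha ha, vadd_self hF, S.el_zero hu]

include hF in
theorem el_swap2 {u a : ι → F} (hu : S.Q u = 0) (ha : S.Q a = 0) (hua : polar S.Q u a = 0) :
    S.el a u = S.el u a := by
  rw [S.el_swap hu ha hua, vneg hF]

include hF in
theorem ap_el2 {u a : ι → F} (hu : S.Q u = 0) (ha : polar S.Q u a = 0) (x : ι → F) :
    S.ap (S.el u a) x = x + polar S.Q x u • a + (polar S.Q x a + S.Q a * polar S.Q x u) • u := by
  rw [S.ap_el hu ha, neg2 hF, sub_eq_add_neg, neg2 hF]

include hF in
/-- conjugation of transvections of a non-singular vector -/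
theorem el_conj2 {u v y : ι → F} (hu : S.Q u = 0) (hv : S.Q v = 0) (huy : polar S.Q u y = 0)
    (hvy : polar S.Q v y = 0) (hy : S.Q y = 1) :
    S.el u y * S.el v y * S.el u y = S.el (v + polar S.Q v u • (y + u)) y := by
  conv_lhs => arg 2; rw [← el_inv2 S hF hu huy]
  rw [S.el_conj hv hvy, ap_el2 S hF hu huy, ap_el2 S hF hu huy, hvy, polar_comm (f := ⇑S.Q) y u, huy,
    polar_self', hy, two_eq_zero hF]
  congr 1 <;> simp [smul_add, add_assoc]

include hF in
theorem el_comm2 {u v y : ι → F} (hu : S.Q u = 0) (hv : S.Q v = 0) (huy : polar S.Q u y = 0)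
    (hvy : polar S.Q v y = 0) (hy : S.Q y = 1) (h : polar S.Q v u = 0) :
    S.el u y * S.el v y = S.el v y * S.el u y := by
  have h1 := el_conj2 S hF hu hv huy hvy hy
  rw [h, zero_smul, add_zero] at h1
  rw [← eq_mul_inv_iff_mul_eq, el_inv2 S hF hu huy] at h1
  exact h1

include hF in
theorem el_braid2 {u v y : ι → F} (hu : S.Q u = 0) (hv : S.Q v = 0) (huy : polar S.Q u y = 0)
    (hvy : polar S.Q v y = 0) (hy : S.Q y = 1) (h : polar S.Q v u = 1) :
    S.el u y * S.el v y * S.el u y = S.el v y * S.el u y * S.el v y := by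
  rw [el_conj2 S hF hu hv huy hvy hy, el_conj2 S hF hv hu hvy huy hy, h, polar_comm, h, one_smul,
    one_smul, add_left_comm u y v, add_left_comm v y u, add_comm u v]

include hF in
/-- the Eichler transformation of a totally singular line as a product of three transvections -/
theorem el_three {u a y : ι → F} (hu : S.Q u = 0) (ha : S.Q a = 0) (hua : polar S.Q u a = 0)
    (huy : polar S.Q u y = 0) (hay : polar S.Q a y = 0) (hy : S.Q y = 1) :
    S.el u a = S.el u y * S.el a y * S.el (u + a) y := by
  have hw : S.Q (u + a) = 0 := by rw [QuadraticMap.map_add ⇑S.Q, hu, ha, hua]; simp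
  have hwy : polar S.Q (u + a) y = 0 := by rw [polar_add_left, huy, hay, add_zero]
  refine S.ext_ap fun x => ?_
  rw [S.ap_mul, S.ap_mul, ap_el2 S hF hu hua, ap_el2 S hF hw hwy, ap_el2 S hF ha hay,
    ap_el2 S hF hu huy]
  simp only [polar_add_left, polar_add_right, polar_smul_left, polar_smul_right, hua, huy, hay, ha,
    polar_comm (f := ⇑S.Q) a u, polar_comm (f := ⇑S.Q) y u, polar_comm (f := ⇑S.Q) y a,
    S.polar_self_zero hu, S.polar_self_zero ha, polar_self' (Q := S.Q) y, hy, smul_eq_mul, mul_one,
    one_mul, mul_zero, zero_mul, add_zero, zero_add, two_eq_zero hF, smul_add]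
  match_scalars <;> linear_combination (norm := ring_nf) (0 : F) <;> simp [two_eq_zero hF]

end Space2

end CfsgLib.MinIndexOrth2
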