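import Cfsg.Agent.Lib.MinIndexOrth2.Basic

/-!
At most four orbits of a radical share a non-singular dual vector; so enough Eichler transformations
centralising that vector keep each of them, and a dual with a non-singular vector is a line or everything.
-/

set_option autoImplicit false
set_option linter.unusedSectionVars false

namespace CfsgLib.MinIndexOrth2

open Matrix QuadraticMap CfsgLib.Orth CfsgLib.MinIndexOrth

variable {ι : Type} [Fintype ι] [DecidableEq ι] {F : Type*} [Field F] [Fintype F]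

theorem perm_four (g : Equiv.Perm (Fin 4)) (h : g ^ 6 = 1) : g ^ 2 = 1 ∨ g ^ 3 = 1 := by
  revert h g
  decide +kernel

/-- In `S₄` two braided involutions centralised by a non-trivial involution are equal. -/
theorem braid_eq {σ τ ρ : Equiv.Perm (Fin 4)} (hσ : σ * σ = 1) (hτ : τ * τ = 1) (hρ : ρ * ρ = 1)
    (hb : σ * τ * σ = τ * σ * τ) (h1 : ρ * σ = σ * ρ) (h2 : ρ * τ = τ * ρ) : σ = τ ∨ ρ = 1 := by
  set g := σ * τ with hg
  have hc : Commute ρ g := (show Commute ρ σ from h1).mul_right h2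
  have hg3 : g ^ 3 = 1 := by
    have e : g ^ 3 = (σ * τ * σ) * (τ * σ * τ) := by simp only [hg, pow_succ, pow_zero, one_mul, mul_assoc]
    rw [e, ← hb]
    calc σ * τ * σ * (σ * τ * σ) = σ * τ * (σ * σ) * τ * σ := by simp only [mul_assoc]
      _ = 1 := by rw [hσ, mul_one, mul_assoc σ τ τ, hτ, mul_one, hσ]
  have h6 : (ρ * g) ^ 6 = 1 := by
    rw [hc.mul_pow, show 6 = 2 * 3 from rfl, pow_mul, pow_mul', pow_two, hρ, one_pow, hg3, one_pow, one_mul]
  rcases perm_four _ h6 with h | h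
  · left
    rw [hc.mul_pow, pow_two, hρ, one_mul] at h
    have : g = 1 := by rw [← hg3, pow_succ, h, one_mul]
    calc σ = σ * (τ * τ) := by rw [hτ, mul_one]
      _ = τ := by rw [← mul_assoc, ← hg, this, one_mul]
  · right
    rw [hc.mul_pow, hg3, mul_one, pow_succ, pow_two, hρ, one_mul] at h
    exact h

theorem braid_trivial {G : Type*} [Group G] {σ τ : G} (hτ : τ * τ = 1)
    (hb : σ * τ * σ = τ * σ * τ) (h : σ = 1) : τ = 1 := by
  subst h
  simp only [one_mul, mul_one] at hb
  exact hb.trans hτ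

theorem braid_comm {G : Type*} [Group G] {σ τ : G} (hσ : σ * σ = 1)
    (hb : σ * τ * σ = τ * σ * τ) (h : σ * τ = τ * σ) : σ = τ := by
  have e : τ * 1 = τ * (σ * τ) := by
    calc τ * 1 = τ * (σ * σ) := by rw [hσ]
      _ = σ * τ * σ := by rw [← mul_assoc, h]
      _ = τ * (σ * τ) := by rw [hb, mul_assoc]
  calc σ = σ * (σ * τ) := by rw [← mul_left_cancel e, mul_one]
    _ = τ := by rw [← mul_assoc, hσ, one_mul]

namespace Space2

variable (S : Space ι F) (hF : Fintype.card F = 2) {X : Type*} [MulAction S.G X]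

include hF in
/-- two non-orthogonal directions keeping an orbit with dual vector `y` -/
theorem move_pair [Fintype X] (h8 : 8 ≤ Fintype.card ι) {p y u : ι → F} (hp : S.Q p = 0) (hp0 : p ≠ 0)
    (hy : S.Q y = 1) (hsmall : (S.orbsAt (X := X) p y).card ≤ 4) {ω : X} (hyd : y ∈ S.dl ω p)
    (hu : S.Q u = 0) (hpu : polar S.Q p u = 0) (hyu : polar S.Q y u = 0) (hus : u ∉ Submodule.span F {p}) :
    ∃ a b, (polar S.Q p a = 0 ∧ polar S.Q y a = 0 ∧ polar S.Q u a = 0) ∧
      (polar S.Q p b = 0 ∧ polar S.Q y b = 0 ∧ polar S.Q u b = 0) ∧ polar S.Q a b = 1 ∧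
      S.el u a • ω ∈ S.orb ω p ∧ S.el u b • ω ∈ S.orb ω p := by
  classical
  have hpy : polar S.Q p y = 0 := S.mem_pp.1 (S.dl_le ω hp hyd)
  have hy0 : y ≠ 0 := by rintro rfl; simp at hy
  -- the frame
  obtain ⟨v, hv, huv, hQv⟩ := POmega.exists_pair S.nondeg ![p, y] hu
    (fun i => by fin_cases i <;> assumption) (by
      rw [Matrix.range_cons, Matrix.range_cons, Matrix.range_empty, Set.union_empty,
        Set.singleton_union, mem_span2 hF]
      rintro (rfl | rfl | rfl | rfl)
      · exact hus (zero_mem _)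
      · exact hus (Submodule.mem_span_singleton_self _)
      · simp [hy] at hu
      · simp [QuadraticMap.map_add ⇑S.Q, hp, hy, hpy] at hu)
  have hpv : polar S.Q p v = 0 := hv 0
  have hyv : polar S.Q y v = 0 := hv 1
  obtain ⟨p', hpp', hp'⟩ := S.exists_partner hp hp0
  obtain ⟨a, ha, ha0, hQa⟩ := S.exists_sing ![p, p', y, u, v] (by omega)
  have hpa : polar S.Q p a = 0 := ha 0
  have hp'a : polar S.Q p' a = 0 := ha 1
  have hya : polar S.Q y a = 0 := ha 2
  have hua : polar S.Q u a = 0 := ha 3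
  have hva : polar S.Q v a = 0 := ha 4
  obtain ⟨b, hb, hab, hQb⟩ := POmega.exists_pair S.nondeg ![p, y, u, v] hQa
    (fun i => by fin_cases i <;> assumption) (by
      intro hm
      simp only [Matrix.range_cons, Matrix.range_empty, Set.union_empty, Set.singleton_union,
        Submodule.mem_span_insert, Submodule.mem_span_singleton] at hm
      obtain ⟨c₁, z, ⟨c₂, z', ⟨c₃, z'', ⟨c₄, rfl⟩, rfl⟩, rfl⟩, rfl⟩ := hm
      simp only [polar_add_right, polar_smul_right, huv, hpu, hyu, hpv, hyv, hpy,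
        S.polar_self_zero hu, S.polar_self_zero hQv, S.polar_self_zero hp,
        polar_comm (f := ⇑S.Q) v u, polar_comm (f := ⇑S.Q) u y, polar_comm (f := ⇑S.Q) u p,
        polar_comm (f := ⇑S.Q) v p, polar_comm (f := ⇑S.Q) v y, polar_comm (f := ⇑S.Q) p' p, hpp',
        smul_eq_mul, mul_zero, mul_one, add_zero, zero_add] at hua hva hp'a
      simp only [hua, hva, zero_smul, add_zero] at ha0 hQa hp'a
      rcases cases2 hF c₂ with rfl | rfl
      · simp at hp'a ha0
        exact ha0.1 hp'a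
      · simp [QuadraticMap.map_add ⇑S.Q, QuadraticMap.map_smul, hp, hy, hpy, polar_smul_left] at hQa)
  have hpb : polar S.Q p b = 0 := hb 0
  have hyb : polar S.Q y b = 0 := hb 1
  have hub : polar S.Q u b = 0 := hb 2
  have hvb : polar S.Q v b = 0 := hb 3
  -- the permutations of the orbits through `y`
  let K : Subgroup S.G :=
    { carrier := {g | S.ap g p = p ∧ S.ap g y = y}
      one_mem' := ⟨S.ap_one p, S.ap_one y⟩
      mul_mem' := fun {g h} hg hh => ⟨by rw [S.ap_mul, hh.1, hg.1], by rw [S.ap_mul, hh.2, hg.2]⟩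
      inv_mem' := fun {g} hg => ⟨by conv_lhs => rw [← hg.1]
                                    exact S.ap_inv_ap g p,
                                by conv_lhs => rw [← hg.2]
                                   exact S.ap_inv_ap g y⟩ }
  let O := {o // o ∈ S.orbsAt (X := X) p y}
  have hmap : ∀ g : K, ∀ o ∈ S.orbsAt (X := X) p y, (fun x => (g : S.G) • x) '' o ∈ S.orbsAt p y := by
    intro g o ho
    obtain ⟨hm, ω', hω', hy'⟩ := S.mem_orbsAt.1 ho
    obtain ⟨ω'', rfl⟩ := S.mem_orbs.1 hm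
    refine S.mem_orbsAt.2 ⟨S.mem_orbs.2 ⟨(g : S.G) • ω'', ?_⟩, (g : S.G) • ω', ⟨ω', hω', rfl⟩, ?_⟩
    · have := S.orb_ap (g : S.G) (ω := ω'') hp
      rwa [g.2.1] at this
    · have := (S.mem_dl_ap (g : S.G) hp).2 hy'
      rwa [g.2.1, g.2.2] at this
  let act : MulAction K O :=
    { smul := fun g o => ⟨(fun x => (g : S.G) • x) '' o.1, hmap g o.1 o.2⟩
      one_smul := fun o => Subtype.ext (by
        show (fun x => ((1 : K) : S.G) • x) '' o.1 = o.1
        simp)
      mul_smul := fun g h o => Subtype.ext (by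
        show (fun x => ((g * h : K) : S.G) • x) '' o.1 = (fun x => (g : S.G) • x) '' ((fun x => (h : S.G) • x) '' o.1)
        rw [Set.image_image]
        simp [mul_smul]) }
  have hcard : Fintype.card O ≤ Fintype.card (Fin 4) := by rw [Fintype.card_coe, Fintype.card_fin]; exact hsmall
  obtain ⟨emb⟩ := Function.Embedding.nonempty_of_card_le hcard
  let f : K →* Equiv.Perm (Fin 4) :=
    (Equiv.Perm.viaEmbeddingHom emb).comp (MulAction.toPermHom K O)
  have hker : ∀ g : K, f g = 1 → (g : S.G) • ω ∈ S.orb ω p := by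
    intro g hg
    have h1 : MulAction.toPermHom K O g = 1 :=
      Equiv.Perm.viaEmbeddingHom_injective emb (by rw [map_one]; exact hg)
    have h2 := congrArg (fun e : Equiv.Perm O => (e ⟨S.orb ω p, S.orb_mem_orbsAt hp hyd⟩).1) h1
    change (fun x => (g : S.G) • x) '' S.orb ω p = S.orb ω p at h2
    rw [← h2]
    exact ⟨ω, S.self_mem_orb ω hp, rfl⟩
  -- the transvections
  have htmem : ∀ {w : ι → F}, S.Q w = 0 → polar S.Q p w = 0 → polar S.Q y w = 0 → S.el w y ∈ K :=
    fun {w} hw hpw hyw =>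
      ⟨S.ap_el_of_perp hw (by rw [polar_comm, hyw]) hpw hpy,
        S.ap_el_of_perp hw (by rw [polar_comm, hyw]) hyw (by rw [polar_self', hy, two_eq_zero hF, zero_mul])⟩
  let T : {w : ι → F // S.Q w = 0 ∧ polar S.Q p w = 0 ∧ polar S.Q y w = 0} → Equiv.Perm (Fin 4) :=
    fun w => f ⟨S.el w.1 y, htmem w.2.1 w.2.2.1 w.2.2.2⟩
  have Tsq : ∀ w, T w * T w = 1 := fun w => by
    rw [← map_mul, show (⟨S.el w.1 y, htmem w.2.1 w.2.2.1 w.2.2.2⟩ : K) *
      ⟨S.el w.1 y, htmem w.2.1 w.2.2.1 w.2.2.2⟩ = 1 from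
      Subtype.ext (el_sq S hF w.2.1 (by rw [polar_comm, w.2.2.2])), map_one]
  have Tcomm : ∀ w z, polar S.Q z.1 w.1 = 0 → T w * T z = T z * T w := fun w z h => by
    rw [← map_mul, ← map_mul]
    exact congrArg f (Subtype.ext (el_comm2 S hF w.2.1 z.2.1 (by rw [polar_comm, w.2.2.2])
      (by rw [polar_comm, z.2.2.2]) hy h))
  have Tbraid : ∀ w z, polar S.Q z.1 w.1 = 1 → T w * T z * T w = T z * T w * T z := fun w z h => by
    rw [← map_mul, ← map_mul, ← map_mul, ← map_mul]
    exact congrArg f (Subtype.ext (el_braid2 S hF w.2.1 z.2.1 (by rw [polar_comm, w.2.2.2])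
      (by rw [polar_comm, z.2.2.2]) hy h))
  set c := v + b with hc
  have hQc : S.Q c = 0 := by rw [QuadraticMap.map_add ⇑S.Q, hQv, hQb, hvb]; simp
  have hpc : polar S.Q p c = 0 := by rw [polar_add_right, hpv, hpb, add_zero]
  have hyc : polar S.Q y c = 0 := by rw [polar_add_right, hyv, hyb, add_zero]
  have hcv : polar S.Q c v = 0 := by
    rw [polar_add_left, S.polar_self_zero hQv, polar_comm (f := ⇑S.Q) b v, hvb, add_zero]
  have hcb : polar S.Q c b = 0 := by rw [polar_add_left, hvb, S.polar_self_zero hQb, add_zero]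
  have hcu : polar S.Q c u = 1 := by
    rw [polar_comm, polar_add_right, huv, hub, add_zero]
  have hca : polar S.Q c a = 1 := by
    rw [polar_comm, polar_add_right, polar_comm (f := ⇑S.Q) a v, hva, hab, zero_add]
  let U : {w : ι → F // S.Q w = 0 ∧ polar S.Q p w = 0 ∧ polar S.Q y w = 0} := ⟨u, hu, hpu, hyu⟩
  let V : {w : ι → F // S.Q w = 0 ∧ polar S.Q p w = 0 ∧ polar S.Q y w = 0} := ⟨v, hQv, hpv, hyv⟩
  let A : {w : ι → F // S.Q w = 0 ∧ polar S.Q p w = 0 ∧ polar S.Q y w = 0} := ⟨a, hQa, hpa, hya⟩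
  let B : {w : ι → F // S.Q w = 0 ∧ polar S.Q p w = 0 ∧ polar S.Q y w = 0} := ⟨b, hQb, hpb, hyb⟩
  let C : {w : ι → F // S.Q w = 0 ∧ polar S.Q p w = 0 ∧ polar S.Q y w = 0} := ⟨c, hQc, hpc, hyc⟩
  have hvu : polar S.Q v u = 1 := by rw [polar_comm, huv]
  have hba : polar S.Q b a = 1 := by rw [polar_comm, hab]
  have hau : polar S.Q a u = 0 := by rw [polar_comm, hua]
  have hbu : polar S.Q b u = 0 := by rw [polar_comm, hub]
  have hav : polar S.Q a v = 0 := by rw [polar_comm, hva]
  have huva : T U = T V ∨ T A = 1 := braid_eq (Tsq U) (Tsq V) (Tsq A)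
    (Tbraid U V hvu) (Tcomm A U hua) (Tcomm A V hva)
  have habu : T A = T B ∨ T U = 1 := braid_eq (Tsq A) (Tsq B) (Tsq U)
    (Tbraid A B hba) (Tcomm U A hau) (Tcomm U B hbu)
  have hbr_cu := Tbraid U C hcu
  have hbr_ca := Tbraid A C hca
  -- all of them act as one permutation
  have hall : T V = T U ∧ T A = T U ∧ T B = T U := by
    by_cases h : T A = 1 ∨ T U = 1
    · have hc1 : T C = 1 := by
        rcases h with h | h
        · exact braid_trivial (Tsq C) hbr_ca h
        · exact braid_trivial (Tsq C) hbr_cu h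
      have hu1 : T U = 1 := braid_trivial (Tsq U) hbr_cu.symm hc1
      have ha1 : T A = 1 := braid_trivial (Tsq A) hbr_ca.symm hc1
      exact ⟨(braid_trivial (Tsq V) (Tbraid U V hvu) hu1).trans hu1.symm,
        ha1.trans hu1.symm,
        (braid_trivial (Tsq B) (Tbraid A B hba) ha1).trans hu1.symm⟩
    · push Not at h
      have e1 : T U = T V := huva.resolve_right h.1
      have e2 : T A = T B := habu.resolve_right h.2
      have e3 : T U = T C := braid_comm (Tsq U) hbr_cu
        (by rw [e1]; exact Tcomm V C hcv)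
      have e4 : T A = T C := braid_comm (Tsq A) hbr_ca
        (by rw [e2]; exact Tcomm B C hcb)
      exact ⟨e1.symm, e4.trans e3.symm, e2.symm.trans (e4.trans e3.symm)⟩
  obtain ⟨hTv, hTa, hTb⟩ := hall
  -- the moves
  have key : ∀ (z : ι → F) (h1 : S.Q z = 0) (h2 : polar S.Q p z = 0) (h3 : polar S.Q y z = 0),
      polar S.Q u z = 0 → polar S.Q v z = 0 → T ⟨z, h1, h2, h3⟩ = T U → S.el u (z + y) • ω ∈ S.orb ω p := by
    intro z h1 h2 h3 huz hvz hTz
    have hw : S.Q (u + z) = 0 := by rw [QuadraticMap.map_add ⇑S.Q, hu, h1, huz]; simp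
    have hwp : polar S.Q p (u + z) = 0 := by rw [polar_add_right, hpu, h2, add_zero]
    have hwy : polar S.Q y (u + z) = 0 := by rw [polar_add_right, hyu, h3, add_zero]
    have hTw : T ⟨u + z, hw, hwp, hwy⟩ = T U := by
      rw [← hTv]
      refine braid_comm (Tsq _) (Tbraid _ _ ?_) ?_
      · rw [polar_add_right, hvu, hvz, add_zero]
      · rw [hTv]
        exact Tcomm _ _ (by rw [polar_add_right, S.polar_self_zero hu, huz, add_zero])
    let g : K := ⟨S.el u y, htmem hu hpu hyu⟩ * ⟨S.el z y, htmem h1 h2 h3⟩ *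
      ⟨S.el (u + z) y, htmem hw hwp hwy⟩ * ⟨S.el u y, htmem hu hpu hyu⟩
    have hg : (g : S.G) = S.el u (z + y) := by
      show S.el u y * S.el z y * S.el (u + z) y * S.el u y = _
      rw [← el_three S hF hu h1 huz (by rw [polar_comm, hyu]) (by rw [polar_comm, h3]) hy,
        S.el_add hu huz (by rw [polar_comm, hyu])]
    rw [← hg]
    refine hker g ?_
    show f (_ * _ * _ * _) = 1
    rw [map_mul, map_mul, map_mul]
    change T U * T ⟨z, h1, h2, h3⟩ * T ⟨u + z, hw, hwp, hwy⟩ * T U = 1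
    rw [hTz, hTw, Tsq, one_mul, Tsq]
  refine ⟨a + y, b + y, ⟨by rw [polar_add_right, hpa, hpy, add_zero],
    by rw [polar_add_right, hya, polar_self', hy, two_eq_zero hF, zero_mul, add_zero],
    by rw [polar_add_right, hua, polar_comm (f := ⇑S.Q) u y, hyu, add_zero]⟩,
    ⟨by rw [polar_add_right, hpb, hpy, add_zero],
    by rw [polar_add_right, hyb, polar_self', hy, two_eq_zero hF, zero_mul, add_zero],
    by rw [polar_add_right, hub, polar_comm (f := ⇑S.Q) u y, hyu, add_zero]⟩, ?_,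
    key a hQa hpa hya hua hva hTa, key b hQb hpb hyb hub hvb hTb⟩
  rw [polar_add_left, polar_add_right, polar_add_right, hab, polar_comm (f := ⇑S.Q) a y, hya, hyb,
    polar_self', hy, two_eq_zero hF, zero_mul]
  simp

include hF in
/-- a dual with a non-singular vector is a line or everything -/
theorem dl_big [Fintype X] (h8 : 8 ≤ Fintype.card ι)
    (hsmall : ∀ p y, S.Q p = 0 → p ≠ 0 → S.Q y ≠ 0 → (S.orbsAt (X := X) p y).card ≤ 4)
    {ω : X} {p y x : ι → F} (hp : S.Q p = 0) (hp0 : p ≠ 0)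
    (hy : S.Q y ≠ 0) (hyd : y ∈ S.dl ω p) (hxd : x ∈ S.dl ω p)
    (hx : x ∉ Submodule.span F {p, y}) : ∀ v, polar S.Q p v = 0 → v ∈ S.dl ω p := by
  have key : ∀ (y x : ι → F), S.Q y ≠ 0 → y ∈ S.dl ω p → x ∈ S.dl ω p →
      x ∉ Submodule.span F {p, y} →
      ∀ v, polar S.Q p v = 0 → polar S.Q y v = 0 → v ∈ S.dl ω p := by
    intro y x hy hyd hxd hx
    have hy1 := eq_one2 hF hy
    have hpy : polar S.Q p y = 0 := S.mem_pp.1 (S.dl_le ω hp hyd)
    obtain ⟨W, hW, s, hs, w, hw, hQs, hsw, hQw⟩ := S.pp_le_of_pair hp hp0 hy hpy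
    have hsw0 : polar S.Q s w ≠ 0 := by rw [hsw]; exact one_ne_zero
    have step : ∀ z ∈ S.dl ω p, ∀ u ∈ W, S.Q u = 0 → polar S.Q z u ≠ 0 → u ∈ S.dl ω p := by
      intro z hz u hu hQu hzu
      obtain ⟨hpu, hyu⟩ := (hW u).1 hu
      by_cases hus : u ∈ Submodule.span F {p}
      · rcases (mem_span1 hF).1 hus with rfl | rfl
        · exact zero_mem _
        · have := S.smul_self_mem_dl ω u 1
          rwa [one_smul] at this
      obtain ⟨a, b, ⟨hpa, hya, hua⟩, ⟨hpb, hyb, hub⟩, hab, hma, hmb⟩ :=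
        move_pair S hF h8 hp hp0 hy1 (hsmall p y hp hp0 hy) hyd hQu hpu hyu hus
      have hmove : ∀ c, polar S.Q p c = 0 → polar S.Q u c = 0 → S.el u c • ω ∈ S.orb ω p →
          polar S.Q z u • c + (polar S.Q z c + S.Q c * polar S.Q z u) • u ∈ S.dl ω p := by
        intro c hpc huc horb
        have h := (S.mem_dl_ap (S.el u c) hp).2 hz
        rw [S.ap_el_of_perp hQu huc hpu hpc, S.dl_of_mem_orb hp horb, ap_el2 S hF hQu huc,
          add_assoc] at h
        exact (AddSubgroup.add_mem_cancel_left _ hz).1 h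
      have habu : polar S.Q u (a + b) = 0 := by rw [polar_add_right, hua, hub, add_zero]
      have habp : polar S.Q p (a + b) = 0 := by rw [polar_add_right, hpa, hpb, add_zero]
      have hmab : S.el u (a + b) • ω ∈ S.orb ω p := by
        rw [← S.el_add hQu hua hub, mul_smul]
        have h1 := S.orb_ap (S.el u a) (ω := ω) hp
        rw [S.ap_el_of_perp hQu hua hpu hpa, S.orb_eq hp hma] at h1
        rw [h1]
        exact ⟨_, hmb, rfl⟩
      have h := add_mem (add_mem (hmove a hpa hua hma) (hmove b hpb hub hmb)) (hmove _ habp habu hmab)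
      rw [eq_one2 hF hzu] at h
      convert h using 1
      rw [QuadraticMap.map_add ⇑S.Q, hab, polar_add_right]
      match_scalars <;> ring_nf <;> simp [two_eq_zero hF]
    obtain ⟨v₀, hv₀, hxv₀⟩ : ∃ v ∈ W, polar S.Q x v ≠ 0 := by
      by_contra hc
      push Not at hc
      apply hx
      rw [← S.orth_orth (Submodule.span F {p, y})]
      refine S.mem_orth.2 fun v hv => ?_
      rw [polar_comm]
      exact hc v ((hW v).2 ⟨S.mem_orth_span.1 hv p (by simp), S.mem_orth_span.1 hv y (by simp)⟩)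
    obtain ⟨u₀, hu₀, hQu₀, hxu₀⟩ := S.exists_sing_pairing hs hQs hw hsw0 hv₀ hxv₀
    have hu₀d : u₀ ∈ S.dl ω p := step x hxd u₀ hu₀ hQu₀ hxu₀
    have hall : ∀ u ∈ W, S.Q u = 0 → u ∈ S.lsp ω p := by
      intro u hu hQu
      refine (mem_lsp S hF).2 ?_
      by_cases h1 : polar S.Q x u = 0
      swap
      · exact step x hxd u hu hQu h1
      by_cases h2 : polar S.Q u₀ u = 0
      swap
      · exact step u₀ hu₀d u hu hQu h2
      have h3 := step x hxd (u + u₀) (add_mem hu hu₀) (by
        rw [QuadraticMap.map_add ⇑S.Q, hQu, hQu₀, polar_comm (f := ⇑S.Q) u u₀, h2]; simp)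
        (by rwa [polar_add_right, h1, zero_add])
      exact (AddSubgroup.add_mem_cancel_right _ hu₀d).1 h3
    intro v hpv hyv
    exact (mem_lsp S hF).1 (S.le_of_sing hs hQs hw hsw0 hall ((hW v).2 ⟨hpv, hyv⟩))
  have hpy : polar S.Q p y = 0 := S.mem_pp.1 (S.dl_le ω hp hyd)
  have h1 := key y x hy hyd hxd hx
  obtain ⟨W, hW, s, hs, w, hw, hQs, hsw, hQw⟩ := S.pp_le_of_pair hp hp0 hy hpy
  obtain ⟨hps, hys⟩ := (hW s).1 hs
  obtain ⟨hpw, hyw⟩ := (hW w).1 hw
  set y' := s + w with hy'
  have hQy' : S.Q y' ≠ 0 := by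
    rw [QuadraticMap.map_add ⇑S.Q, hQs, hQw, hsw]; simp
  have hy'1 : polar S.Q p y' = 0 := by rw [hy', polar_add_right, hps, hpw, add_zero]
  have hy'2 : polar S.Q y y' = 0 := by rw [hy', polar_add_right, hys, hyw, add_zero]
  have hsy' : polar S.Q y' s = 1 := by
    rw [polar_add_left, S.polar_self_zero hQs, polar_comm, hsw, zero_add]
  have hsspan : s ∉ Submodule.span F {p, y'} := by
    rw [mem_span2 hF]
    rintro (rfl | rfl | h | h)
    · simp at hsw
    · simp [hpw] at hsw
    · rw [← h, S.polar_self_zero hQs] at hsy'; exact zero_ne_one hsy'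
    · have := congrArg S.Q h
      rw [hQs, QuadraticMap.map_add ⇑S.Q, hp, hy'1] at this
      simp at this
      exact hQy' this.symm
  have h2 := key y' s hQy' (h1 y' hy'1 hy'2) (h1 s hps hys) hsspan
  intro v hpv
  set z := polar S.Q y' v • s
  have hz1 : polar S.Q p z = 0 := by rw [polar_smul_right, hps, smul_zero]
  have hz2 : polar S.Q y z = 0 := by rw [polar_smul_right, hys, smul_zero]
  have hz3 : polar S.Q y' z = polar S.Q y' v := by
    rw [polar_smul_right, hsy', smul_eq_mul, mul_one]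
  rw [← sub_add_cancel v z]
  exact add_mem (h2 _ (by rw [polar_sub_right, hpv, hz1, sub_zero])
    (by rw [polar_sub_right, hz3, sub_self])) (h1 z hz1 hz2)

end Space2

end CfsgLib.MinIndexOrth2
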